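import Cfsg.Agent.SimpleFacts.MinIndexPSUFive.Witness

/-!
# Tables for the triple cover of the alternating group of degree seven inside `SU₃(5)`

The five matrices `X` generate it; `M₁` is a frame of a generating pair of a subgroup `L₂(7)`, `ctr` lists 105
lines permuted by the five matrices, the centres of its involutions.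
-/

set_option autoImplicit false

namespace Cfsg.Agent.PSLThree.Rep5

open Matrix
open Cfsg.Agent.SimpleFacts.MinIndexPSUFive.Witness (Q5 X)

/-- matrices over the field with 25 elements -/
abbrev M5 : Type := Matrix (Fin 3) (Fin 3) Q5

/-- the standard frame of an involution -/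
def stdA (r s : Q5) : M5 := !![1, 2 * r, 2 * s; 0, -1, 0; 0, 0, -1]

/-- the standard frame of an element of order three -/
def stdB : M5 := !![0, 0, 1; 1, 0, 0; 0, 1, 0]

/-- the two parameters -/
def r0 : Q5 := ⟨0, 3⟩

/-- the other -/
def s0 : Q5 := ⟨2, 2⟩

/-- the frame -/
def frame : M5 := !![⟨0, 1⟩, ⟨2, 2⟩, ⟨0, 3⟩; ⟨2, 2⟩, ⟨1, 1⟩, ⟨3, 0⟩; ⟨0, 3⟩, ⟨3, 3⟩, ⟨1, 3⟩]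

/-- the words -/
def wA : M5 := X 1 * X 2

/-- the word of order three -/
def wB : M5 := X 0 * X 1 * X 4 * X 3

/-- an element of order five -/
def wF : M5 := X 0 * X 1 * X 2

theorem frame_det : frame.det = ⟨2, 1⟩ := by decide +kernel

theorem frame_det_inv : frame.det * ⟨4, 1⟩ = 1 := by decide +kernel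

theorem wA_frame : wA * frame = frame * stdA r0 s0 := by decide +kernel

theorem wB_frame : wB * frame = frame * stdB := by decide +kernel

theorem wF_five : wF * wF * wF * wF * wF = 1 := by decide +kernel

theorem wF_not_scalar : wF 0 1 ≠ 0 ∨ wF 0 0 ≠ wF 1 1 ∨ wF 1 0 ≠ 0 := by decide +kernel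

/-- the lines -/
def ctrList : List (Fin 3 → Q5) :=
  [![⟨0, 0⟩, ⟨1, 0⟩, ⟨0, 0⟩],
    ![⟨0, 0⟩, ⟨1, 0⟩, ⟨2, 4⟩],
    ![⟨0, 0⟩, ⟨1, 0⟩, ⟨3, 1⟩],
    ![⟨1, 0⟩, ⟨0, 0⟩, ⟨0, 3⟩],
    ![⟨1, 0⟩, ⟨0, 0⟩, ⟨0, 4⟩],
    ![⟨1, 0⟩, ⟨0, 0⟩, ⟨1, 1⟩],
    ![⟨1, 0⟩, ⟨0, 0⟩, ⟨1, 2⟩],
    ![⟨1, 0⟩, ⟨0, 0⟩, ⟨1, 3⟩],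
    ![⟨1, 0⟩, ⟨0, 0⟩, ⟨2, 2⟩],
    ![⟨1, 0⟩, ⟨0, 0⟩, ⟨2, 4⟩],
    ![⟨1, 0⟩, ⟨0, 0⟩, ⟨4, 2⟩],
    ![⟨1, 0⟩, ⟨0, 1⟩, ⟨0, 3⟩],
    ![⟨1, 0⟩, ⟨0, 1⟩, ⟨1, 3⟩],
    ![⟨1, 0⟩, ⟨0, 1⟩, ⟨2, 0⟩],
    ![⟨1, 0⟩, ⟨0, 2⟩, ⟨0, 3⟩],
    ![⟨1, 0⟩, ⟨0, 2⟩, ⟨1, 1⟩],
    ![⟨1, 0⟩, ⟨0, 2⟩, ⟨2, 0⟩],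
    ![⟨1, 0⟩, ⟨0, 3⟩, ⟨0, 3⟩],
    ![⟨1, 0⟩, ⟨0, 3⟩, ⟨1, 1⟩],
    ![⟨1, 0⟩, ⟨0, 3⟩, ⟨2, 0⟩],
    ![⟨1, 0⟩, ⟨0, 4⟩, ⟨0, 3⟩],
    ![⟨1, 0⟩, ⟨0, 4⟩, ⟨1, 3⟩],
    ![⟨1, 0⟩, ⟨0, 4⟩, ⟨2, 0⟩],
    ![⟨1, 0⟩, ⟨1, 0⟩, ⟨1, 4⟩],
    ![⟨1, 0⟩, ⟨1, 0⟩, ⟨4, 2⟩],
    ![⟨1, 0⟩, ⟨1, 0⟩, ⟨4, 3⟩],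
    ![⟨1, 0⟩, ⟨1, 1⟩, ⟨0, 0⟩],
    ![⟨1, 0⟩, ⟨1, 1⟩, ⟨2, 1⟩],
    ![⟨1, 0⟩, ⟨1, 1⟩, ⟨3, 4⟩],
    ![⟨1, 0⟩, ⟨1, 2⟩, ⟨2, 4⟩],
    ![⟨1, 0⟩, ⟨1, 2⟩, ⟨4, 1⟩],
    ![⟨1, 0⟩, ⟨1, 2⟩, ⟨4, 2⟩],
    ![⟨1, 0⟩, ⟨1, 3⟩, ⟨0, 4⟩],
    ![⟨1, 0⟩, ⟨1, 3⟩, ⟨1, 2⟩],
    ![⟨1, 0⟩, ⟨1, 3⟩, ⟨4, 4⟩],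
    ![⟨1, 0⟩, ⟨1, 4⟩, ⟨0, 3⟩],
    ![⟨1, 0⟩, ⟨1, 4⟩, ⟨1, 3⟩],
    ![⟨1, 0⟩, ⟨1, 4⟩, ⟨2, 2⟩],
    ![⟨1, 0⟩, ⟨1, 4⟩, ⟨3, 0⟩],
    ![⟨1, 0⟩, ⟨1, 4⟩, ⟨3, 2⟩],
    ![⟨1, 0⟩, ⟨2, 0⟩, ⟨1, 4⟩],
    ![⟨1, 0⟩, ⟨2, 0⟩, ⟨2, 2⟩],
    ![⟨1, 0⟩, ⟨2, 0⟩, ⟨2, 4⟩],
    ![⟨1, 0⟩, ⟨2, 0⟩, ⟨4, 0⟩],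
    ![⟨1, 0⟩, ⟨2, 0⟩, ⟨4, 2⟩],
    ![⟨1, 0⟩, ⟨2, 1⟩, ⟨0, 4⟩],
    ![⟨1, 0⟩, ⟨2, 1⟩, ⟨1, 0⟩],
    ![⟨1, 0⟩, ⟨2, 1⟩, ⟨1, 2⟩],
    ![⟨1, 0⟩, ⟨2, 1⟩, ⟨2, 2⟩],
    ![⟨1, 0⟩, ⟨2, 1⟩, ⟨2, 3⟩],
    ![⟨1, 0⟩, ⟨2, 2⟩, ⟨0, 2⟩],
    ![⟨1, 0⟩, ⟨2, 2⟩, ⟨0, 4⟩],
    ![⟨1, 0⟩, ⟨2, 2⟩, ⟨1, 1⟩],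
    ![⟨1, 0⟩, ⟨2, 2⟩, ⟨1, 2⟩],
    ![⟨1, 0⟩, ⟨2, 2⟩, ⟨2, 1⟩],
    ![⟨1, 0⟩, ⟨2, 2⟩, ⟨3, 1⟩],
    ![⟨1, 0⟩, ⟨2, 2⟩, ⟨3, 3⟩],
    ![⟨1, 0⟩, ⟨2, 2⟩, ⟨3, 4⟩],
    ![⟨1, 0⟩, ⟨2, 3⟩, ⟨0, 1⟩],
    ![⟨1, 0⟩, ⟨2, 3⟩, ⟨1, 3⟩],
    ![⟨1, 0⟩, ⟨2, 3⟩, ⟨3, 0⟩],
    ![⟨1, 0⟩, ⟨2, 4⟩, ⟨1, 1⟩],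
    ![⟨1, 0⟩, ⟨2, 4⟩, ⟨2, 4⟩],
    ![⟨1, 0⟩, ⟨2, 4⟩, ⟨4, 1⟩],
    ![⟨1, 0⟩, ⟨3, 0⟩, ⟨1, 4⟩],
    ![⟨1, 0⟩, ⟨3, 0⟩, ⟨2, 2⟩],
    ![⟨1, 0⟩, ⟨3, 0⟩, ⟨2, 4⟩],
    ![⟨1, 0⟩, ⟨3, 0⟩, ⟨4, 0⟩],
    ![⟨1, 0⟩, ⟨3, 0⟩, ⟨4, 2⟩],
    ![⟨1, 0⟩, ⟨3, 1⟩, ⟨1, 1⟩],
    ![⟨1, 0⟩, ⟨3, 1⟩, ⟨2, 4⟩],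
    ![⟨1, 0⟩, ⟨3, 1⟩, ⟨4, 1⟩],
    ![⟨1, 0⟩, ⟨3, 2⟩, ⟨0, 1⟩],
    ![⟨1, 0⟩, ⟨3, 2⟩, ⟨1, 3⟩],
    ![⟨1, 0⟩, ⟨3, 2⟩, ⟨3, 0⟩],
    ![⟨1, 0⟩, ⟨3, 3⟩, ⟨0, 2⟩],
    ![⟨1, 0⟩, ⟨3, 3⟩, ⟨0, 4⟩],
    ![⟨1, 0⟩, ⟨3, 3⟩, ⟨1, 1⟩],
    ![⟨1, 0⟩, ⟨3, 3⟩, ⟨1, 2⟩],
    ![⟨1, 0⟩, ⟨3, 3⟩, ⟨2, 1⟩],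
    ![⟨1, 0⟩, ⟨3, 3⟩, ⟨3, 1⟩],
    ![⟨1, 0⟩, ⟨3, 3⟩, ⟨3, 3⟩],
    ![⟨1, 0⟩, ⟨3, 3⟩, ⟨3, 4⟩],
    ![⟨1, 0⟩, ⟨3, 4⟩, ⟨0, 4⟩],
    ![⟨1, 0⟩, ⟨3, 4⟩, ⟨1, 0⟩],
    ![⟨1, 0⟩, ⟨3, 4⟩, ⟨1, 2⟩],
    ![⟨1, 0⟩, ⟨3, 4⟩, ⟨2, 2⟩],
    ![⟨1, 0⟩, ⟨3, 4⟩, ⟨2, 3⟩],
    ![⟨1, 0⟩, ⟨4, 0⟩, ⟨1, 4⟩],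
    ![⟨1, 0⟩, ⟨4, 0⟩, ⟨4, 2⟩],
    ![⟨1, 0⟩, ⟨4, 0⟩, ⟨4, 3⟩],
    ![⟨1, 0⟩, ⟨4, 1⟩, ⟨0, 3⟩],
    ![⟨1, 0⟩, ⟨4, 1⟩, ⟨1, 3⟩],
    ![⟨1, 0⟩, ⟨4, 1⟩, ⟨2, 2⟩],
    ![⟨1, 0⟩, ⟨4, 1⟩, ⟨3, 0⟩],
    ![⟨1, 0⟩, ⟨4, 1⟩, ⟨3, 2⟩],
    ![⟨1, 0⟩, ⟨4, 2⟩, ⟨0, 4⟩],
    ![⟨1, 0⟩, ⟨4, 2⟩, ⟨1, 2⟩],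
    ![⟨1, 0⟩, ⟨4, 2⟩, ⟨4, 4⟩],
    ![⟨1, 0⟩, ⟨4, 3⟩, ⟨2, 4⟩],
    ![⟨1, 0⟩, ⟨4, 3⟩, ⟨4, 1⟩],
    ![⟨1, 0⟩, ⟨4, 3⟩, ⟨4, 2⟩],
    ![⟨1, 0⟩, ⟨4, 4⟩, ⟨0, 0⟩],
    ![⟨1, 0⟩, ⟨4, 4⟩, ⟨2, 1⟩],
    ![⟨1, 0⟩, ⟨4, 4⟩, ⟨3, 4⟩]]

/-- a line -/
def ctr (j : Fin 105) : Fin 3 → Q5 := ctrList.getD j.1 0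

/-- the images -/
def imgList : List (List ℕ) :=
  [[5, 102, 56, 37, 93, 8, 41, 48, 0, 65, 86, 11, 1, 68, 23, 6, 13, 103, 9, 30, 45, 34, 92, 54, 73, 35, 101, 79, 94, 99, 36, 2, 88, 74, 81, 80, 19, 69, 62, 51, 17, 15, 75, 53, 63, 83, 72, 47, 52, 90, 58, 55, 7, 84, 14, 39, 31, 33, 78, 59, 38, 4, 60, 100, 32, 18, 46, 42, 16, 3, 104, 22, 66, 89, 57, 67, 49, 10, 50, 96, 25, 21, 70, 20, 43, 29, 77, 95, 64, 24, 76, 87, 71, 61, 97, 91, 27, 28, 26, 85, 44, 98, 12, 40, 82],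
    [62, 81, 17, 44, 35, 82, 6, 32, 74, 99, 21, 46, 10, 39, 1, 47, 100, 56, 65, 76, 58, 12, 93, 34, 45, 92, 48, 64, 97, 9, 19, 40, 96, 104, 77, 91, 90, 13, 33, 37, 103, 15, 42, 50, 68, 53, 72, 41, 79, 36, 73, 16, 98, 24, 86, 63, 2, 5, 84, 75, 8, 71, 70, 69, 101, 85, 66, 59, 3, 55, 0, 80, 11, 43, 60, 67, 30, 23, 83, 26, 61, 14, 57, 89, 20, 18, 102, 25, 52, 78, 49, 4, 87, 95, 28, 22, 7, 94, 88, 29, 51, 27, 54, 31, 38],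
    [8, 101, 21, 61, 69, 0, 18, 77, 5, 15, 52, 45, 56, 63, 64, 41, 92, 79, 65, 44, 20, 26, 19, 96, 59, 87, 2, 14, 62, 99, 71, 102, 54, 38, 31, 39, 13, 4, 104, 49, 23, 9, 58, 50, 22, 83, 78, 29, 10, 35, 66, 25, 48, 72, 103, 91, 98, 28, 84, 89, 97, 93, 57, 36, 27, 6, 43, 46, 30, 37, 94, 68, 75, 73, 70, 53, 95, 86, 67, 88, 76, 1, 60, 11, 42, 85, 7, 51, 17, 24, 55, 90, 100, 3, 74, 80, 40, 82, 12, 47, 16, 81, 34, 32, 33],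
    [68, 20, 56, 70, 91, 100, 32, 7, 19, 78, 24, 2, 99, 36, 84, 75, 8, 72, 23, 16, 81, 83, 71, 50, 89, 94, 47, 64, 87, 21, 5, 31, 96, 39, 85, 4, 63, 38, 90, 55, 103, 79, 27, 54, 0, 12, 17, 98, 52, 104, 18, 57, 59, 9, 65, 33, 11, 74, 14, 48, 82, 28, 3, 13, 42, 43, 40, 41, 44, 49, 62, 92, 46, 77, 51, 88, 60, 86, 53, 67, 95, 1, 76, 29, 58, 102, 73, 61, 15, 10, 37, 35, 22, 25, 93, 97, 6, 80, 26, 45, 30, 101, 34, 66, 69],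
    [96, 77, 104, 3, 83, 64, 44, 70, 103, 53, 12, 37, 21, 72, 54, 46, 100, 88, 71, 42, 61, 10, 65, 14, 29, 87, 98, 8, 1, 35, 19, 60, 0, 26, 102, 24, 67, 69, 56, 47, 5, 13, 30, 92, 68, 4, 63, 55, 38, 90, 43, 51, 2, 78, 23, 39, 48, 74, 22, 49, 82, 93, 7, 15, 40, 58, 16, 75, 6, 11, 62, 84, 41, 25, 101, 36, 76, 28, 9, 17, 85, 94, 31, 45, 18, 95, 81, 73, 79, 91, 59, 99, 50, 20, 86, 80, 32, 34, 33, 89, 66, 57, 97, 27, 52]]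

/-- the factors -/
def facList : List (List Q5) :=
  [[⟨1, 1⟩, ⟨3, 3⟩, ⟨4, 4⟩, ⟨3, 3⟩, ⟨4, 0⟩, ⟨0, 1⟩, ⟨1, 3⟩, ⟨2, 0⟩, ⟨2, 0⟩, ⟨2, 4⟩, ⟨3, 4⟩, ⟨1, 3⟩, ⟨4, 2⟩, ⟨1, 1⟩, ⟨4, 3⟩, ⟨1, 1⟩, ⟨4, 1⟩, ⟨2, 3⟩, ⟨4, 1⟩, ⟨2, 1⟩, ⟨0, 3⟩, ⟨4, 0⟩, ⟨0, 1⟩, ⟨4, 3⟩, ⟨4, 0⟩, ⟨0, 2⟩, ⟨4, 3⟩, ⟨3, 4⟩, ⟨0, 2⟩, ⟨4, 0⟩, ⟨4, 3⟩, ⟨2, 3⟩, ⟨4, 1⟩, ⟨1, 4⟩, ⟨0, 4⟩, ⟨1, 4⟩, ⟨0, 1⟩, ⟨3, 1⟩, ⟨0, 4⟩, ⟨2, 3⟩, ⟨0, 4⟩, ⟨2, 2⟩, ⟨4, 1⟩, ⟨3, 2⟩, ⟨0, 1⟩, ⟨4, 2⟩, ⟨4, 1⟩, ⟨1, 0⟩, ⟨0, 2⟩, ⟨1, 4⟩, ⟨0, 3⟩, ⟨2, 2⟩, ⟨3, 3⟩, ⟨4, 0⟩, ⟨2, 0⟩, ⟨1, 2⟩, ⟨3, 1⟩, ⟨4, 3⟩, ⟨2, 1⟩, ⟨3, 2⟩, ⟨3, 0⟩, ⟨4, 3⟩, ⟨1, 1⟩,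 ⟨1, 4⟩, ⟨1, 0⟩, ⟨3, 3⟩, ⟨0, 2⟩, ⟨4, 3⟩, ⟨1, 2⟩, ⟨1, 4⟩, ⟨3, 2⟩, ⟨3, 0⟩, ⟨0, 2⟩, ⟨1, 3⟩, ⟨1, 1⟩, ⟨4, 4⟩, ⟨1, 3⟩, ⟨2, 4⟩, ⟨3, 1⟩, ⟨1, 1⟩, ⟨0, 3⟩, ⟨2, 2⟩, ⟨3, 4⟩, ⟨4, 3⟩, ⟨4, 2⟩, ⟨1, 1⟩, ⟨0, 3⟩, ⟨1, 0⟩, ⟨2, 1⟩, ⟨2, 3⟩, ⟨3, 0⟩, ⟨0, 2⟩, ⟨4, 4⟩, ⟨2, 4⟩, ⟨4, 2⟩, ⟨1, 1⟩, ⟨4, 4⟩, ⟨1, 2⟩, ⟨0, 2⟩, ⟨0, 3⟩, ⟨0, 1⟩, ⟨1, 3⟩, ⟨1, 1⟩, ⟨0, 2⟩, ⟨2, 0⟩],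
    [⟨0, 3⟩, ⟨1, 2⟩, ⟨4, 4⟩, ⟨2, 1⟩, ⟨1, 3⟩, ⟨4, 0⟩, ⟨3, 2⟩, ⟨2, 4⟩, ⟨3, 0⟩, ⟨1, 4⟩, ⟨3, 1⟩, ⟨1, 3⟩, ⟨1, 1⟩, ⟨4, 3⟩, ⟨3, 1⟩, ⟨2, 4⟩, ⟨3, 0⟩, ⟨4, 2⟩, ⟨1, 1⟩, ⟨2, 2⟩, ⟨3, 4⟩, ⟨3, 2⟩, ⟨1, 4⟩, ⟨1, 4⟩, ⟨3, 4⟩, ⟨2, 1⟩, ⟨4, 0⟩, ⟨3, 3⟩, ⟨0, 2⟩, ⟨4, 1⟩, ⟨2, 1⟩, ⟨1, 3⟩, ⟨3, 2⟩, ⟨0, 1⟩, ⟨3, 4⟩, ⟨3, 2⟩, ⟨3, 0⟩, ⟨4, 1⟩, ⟨1, 0⟩, ⟨4, 4⟩, ⟨1, 2⟩, ⟨3, 1⟩, ⟨1, 0⟩, ⟨0, 3⟩, ⟨3, 2⟩, ⟨0, 1⟩, ⟨4, 1⟩, ⟨2, 0⟩, ⟨2, 3⟩, ⟨1, 0⟩, ⟨1, 4⟩, ⟨4, 3⟩, ⟨2, 0⟩, ⟨1, 2⟩, ⟨2, 3⟩, ⟨2, 1⟩, ⟨2, 2⟩, ⟨4, 2⟩, ⟨1, 4⟩, ⟨4, 1⟩, ⟨2, 1⟩, ⟨0, 4⟩, ⟨2, 3⟩, ⟨0, 3⟩, ⟨1, 0⟩, ⟨3, 4⟩, ⟨1, 3⟩, ⟨0, 1⟩, ⟨3, 0⟩,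 ⟨3, 1⟩, ⟨0, 1⟩, ⟨3, 0⟩, ⟨2, 0⟩, ⟨0, 2⟩, ⟨3, 2⟩, ⟨0, 4⟩, ⟨3, 3⟩, ⟨1, 0⟩, ⟨0, 2⟩, ⟨1, 3⟩, ⟨1, 1⟩, ⟨4, 0⟩, ⟨3, 2⟩, ⟨2, 0⟩, ⟨1, 0⟩, ⟨4, 4⟩, ⟨4, 2⟩, ⟨3, 4⟩, ⟨1, 3⟩, ⟨3, 3⟩, ⟨2, 0⟩, ⟨1, 0⟩, ⟨1, 3⟩, ⟨2, 4⟩, ⟨4, 3⟩, ⟨2, 2⟩, ⟨4, 4⟩, ⟨1, 3⟩, ⟨4, 1⟩, ⟨3, 2⟩, ⟨1, 2⟩, ⟨0, 4⟩, ⟨1, 0⟩, ⟨0, 3⟩, ⟨2, 2⟩],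
    [⟨2, 1⟩, ⟨3, 2⟩, ⟨1, 0⟩, ⟨4, 1⟩, ⟨2, 2⟩, ⟨2, 4⟩, ⟨3, 1⟩, ⟨1, 2⟩, ⟨0, 2⟩, ⟨1, 4⟩, ⟨4, 4⟩, ⟨2, 2⟩, ⟨4, 3⟩, ⟨2, 1⟩, ⟨0, 3⟩, ⟨1, 2⟩, ⟨0, 2⟩, ⟨3, 4⟩, ⟨4, 3⟩, ⟨3, 3⟩, ⟨1, 0⟩, ⟨3, 1⟩, ⟨1, 4⟩, ⟨1, 4⟩, ⟨1, 0⟩, ⟨4, 1⟩, ⟨4, 3⟩, ⟨2, 3⟩, ⟨3, 2⟩, ⟨4, 2⟩, ⟨4, 1⟩, ⟨2, 2⟩, ⟨3, 1⟩, ⟨4, 0⟩, ⟨1, 0⟩, ⟨3, 1⟩, ⟨0, 2⟩, ⟨4, 2⟩, ⟨0, 1⟩, ⟨1, 3⟩, ⟨3, 0⟩, ⟨4, 4⟩, ⟨0, 1⟩, ⟨2, 4⟩, ⟨3, 1⟩, ⟨4, 0⟩, ⟨4, 2⟩, ⟨0, 4⟩, ⟨2, 0⟩, ⟨0, 1⟩, ⟨1, 4⟩, ⟨2, 1⟩, ⟨0, 4⟩, ⟨3, 0⟩, ⟨2, 0⟩, ⟨4, 1⟩, ⟨0, 3⟩, ⟨3, 4⟩, ⟨1, 4⟩, ⟨4, 2⟩, ⟨4, 1⟩, ⟨1, 1⟩, ⟨2, 0⟩, ⟨2, 4⟩, ⟨0, 1⟩, ⟨1, 0⟩, ⟨2, 2⟩, ⟨4, 0⟩, ⟨0, 2⟩,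 ⟨4, 4⟩, ⟨0, 3⟩, ⟨0, 2⟩, ⟨0, 4⟩, ⟨3, 2⟩, ⟨3, 1⟩, ⟨1, 1⟩, ⟨2, 3⟩, ⟨0, 1⟩, ⟨3, 2⟩, ⟨2, 2⟩, ⟨4, 3⟩, ⟨3, 1⟩, ⟨3, 1⟩, ⟨0, 4⟩, ⟨0, 1⟩, ⟨1, 3⟩, ⟨3, 4⟩, ⟨1, 0⟩, ⟨2, 2⟩, ⟨2, 3⟩, ⟨0, 4⟩, ⟨0, 1⟩, ⟨2, 2⟩, ⟨1, 2⟩, ⟨2, 1⟩, ⟨3, 3⟩, ⟨1, 3⟩, ⟨2, 2⟩, ⟨4, 2⟩, ⟨3, 1⟩, ⟨3, 0⟩, ⟨1, 1⟩, ⟨0, 1⟩, ⟨2, 4⟩, ⟨3, 3⟩],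
    [⟨2, 3⟩, ⟨3, 4⟩, ⟨1, 2⟩, ⟨1, 1⟩, ⟨4, 2⟩, ⟨2, 0⟩, ⟨0, 1⟩, ⟨3, 2⟩, ⟨2, 2⟩, ⟨3, 4⟩, ⟨1, 4⟩, ⟨3, 0⟩, ⟨2, 1⟩, ⟨0, 4⟩, ⟨4, 4⟩, ⟨0, 3⟩, ⟨4, 3⟩, ⟨3, 3⟩, ⟨4, 2⟩, ⟨3, 2⟩, ⟨2, 2⟩, ⟨4, 3⟩, ⟨2, 1⟩, ⟨3, 1⟩, ⟨3, 2⟩, ⟨1, 3⟩, ⟨3, 0⟩, ⟨0, 3⟩, ⟨1, 2⟩, ⟨3, 0⟩, ⟨3, 4⟩, ⟨1, 0⟩, ⟨3, 2⟩, ⟨4, 1⟩, ⟨1, 1⟩, ⟨4, 0⟩, ⟨1, 1⟩, ⟨0, 1⟩, ⟨1, 0⟩, ⟨2, 2⟩, ⟨0, 4⟩, ⟨1, 3⟩, ⟨2, 0⟩, ⟨4, 3⟩, ⟨3, 2⟩, ⟨2, 2⟩, ⟨2, 4⟩, ⟨3, 1⟩, ⟨0, 2⟩, ⟨3, 3⟩, ⟨0, 4⟩, ⟨1, 1⟩, ⟨4, 4⟩, ⟨2, 0⟩, ⟨1, 0⟩, ⟨3, 1⟩, ⟨4, 3⟩, ⟨2, 4⟩, ⟨1, 2⟩, ⟨4, 0⟩, ⟨4, 4⟩, ⟨2, 2⟩, ⟨3, 1⟩, ⟨3, 0⟩, ⟨2, 2⟩, ⟨3, 1⟩, ⟨4, 3⟩, ⟨1, 1⟩, ⟨2, 3⟩,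 ⟨2, 3⟩, ⟨3, 2⟩, ⟨3, 1⟩, ⟨4, 1⟩, ⟨2, 4⟩, ⟨2, 3⟩, ⟨1, 1⟩, ⟨2, 3⟩, ⟨0, 1⟩, ⟨3, 2⟩, ⟨2, 2⟩, ⟨4, 3⟩, ⟨2, 2⟩, ⟨3, 1⟩, ⟨1, 2⟩, ⟨1, 4⟩, ⟨2, 1⟩, ⟨4, 2⟩, ⟨2, 3⟩, ⟨4, 0⟩, ⟨4, 1⟩, ⟨2, 2⟩, ⟨3, 2⟩, ⟨0, 3⟩, ⟨4, 3⟩, ⟨0, 2⟩, ⟨1, 4⟩, ⟨0, 2⟩, ⟨1, 1⟩, ⟨3, 1⟩, ⟨3, 3⟩, ⟨3, 2⟩, ⟨1, 3⟩, ⟨1, 1⟩, ⟨3, 4⟩, ⟨4, 3⟩],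
    [⟨4, 1⟩, ⟨2, 0⟩, ⟨1, 2⟩, ⟨1, 0⟩, ⟨2, 0⟩, ⟨1, 2⟩, ⟨2, 2⟩, ⟨3, 2⟩, ⟨4, 4⟩, ⟨1, 4⟩, ⟨3, 3⟩, ⟨4, 3⟩, ⟨1, 0⟩, ⟨0, 2⟩, ⟨2, 1⟩, ⟨2, 3⟩, ⟨3, 0⟩, ⟨0, 4⟩, ⟨0, 1⟩, ⟨1, 3⟩, ⟨3, 2⟩, ⟨0, 4⟩, ⟨4, 1⟩, ⟨3, 3⟩, ⟨2, 4⟩, ⟨3, 4⟩, ⟨0, 4⟩, ⟨0, 3⟩, ⟨3, 1⟩, ⟨1, 1⟩, ⟨2, 0⟩, ⟨3, 0⟩, ⟨3, 4⟩, ⟨0, 2⟩, ⟨3, 3⟩, ⟨2, 3⟩, ⟨4, 0⟩, ⟨0, 2⟩, ⟨0, 4⟩, ⟨2, 4⟩, ⟨2, 4⟩, ⟨2, 1⟩, ⟨4, 1⟩, ⟨4, 0⟩, ⟨1, 0⟩, ⟨3, 0⟩, ⟨1, 2⟩, ⟨3, 2⟩, ⟨0, 4⟩, ⟨1, 4⟩, ⟨4, 3⟩, ⟨1, 3⟩, ⟨2, 0⟩, ⟨1, 0⟩, ⟨2, 2⟩, ⟨4, 4⟩, ⟨1, 4⟩, ⟨2, 4⟩, ⟨1, 1⟩, ⟨0, 3⟩, ⟨1, 2⟩, ⟨1, 1⟩, ⟨1, 3⟩, ⟨2, 2⟩, ⟨1, 0⟩, ⟨1, 2⟩, ⟨3, 2⟩, ⟨3, 1⟩, ⟨0, 1⟩,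 ⟨1, 3⟩, ⟨1, 0⟩, ⟨2, 4⟩, ⟨2, 4⟩, ⟨1, 1⟩, ⟨2, 0⟩, ⟨1, 2⟩, ⟨3, 2⟩, ⟨2, 4⟩, ⟨3, 4⟩, ⟨4, 1⟩, ⟨1, 3⟩, ⟨3, 3⟩, ⟨4, 3⟩, ⟨1, 0⟩, ⟨4, 2⟩, ⟨1, 2⟩, ⟨3, 4⟩, ⟨4, 4⟩, ⟨0, 1⟩, ⟨4, 2⟩, ⟨0, 2⟩, ⟨0, 2⟩, ⟨2, 4⟩, ⟨3, 1⟩, ⟨3, 3⟩, ⟨0, 3⟩, ⟨4, 0⟩, ⟨4, 2⟩, ⟨2, 3⟩, ⟨1, 2⟩, ⟨2, 1⟩, ⟨3, 1⟩, ⟨1, 1⟩, ⟨1, 0⟩, ⟨1, 2⟩]]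

/-- the image of a line -/
def img (i : Fin 5) (j : Fin 105) : Fin 105 := Fin.ofNat 105 ((imgList.getD i.1 []).getD j.1 0)

/-- the factor -/
def fac (i : Fin 5) (j : Fin 105) : Q5 := (facList.getD i.1 []).getD j.1 0

theorem ctr_img0 : ∀ j, X 0 *ᵥ ctr j = fac 0 j • ctr (img 0 j) := by decide +kernel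

theorem ctr_img1 : ∀ j, X 1 *ᵥ ctr j = fac 1 j • ctr (img 1 j) := by decide +kernel

theorem ctr_img2 : ∀ j, X 2 *ᵥ ctr j = fac 2 j • ctr (img 2 j) := by decide +kernel

theorem ctr_img3 : ∀ j, X 3 *ᵥ ctr j = fac 3 j • ctr (img 3 j) := by decide +kernel

theorem ctr_img4 : ∀ j, X 4 *ᵥ ctr j = fac 4 j • ctr (img 4 j) := by decide +kernel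

theorem ctr_img (i : Fin 5) : ∀ j, X i *ᵥ ctr j = fac i j • ctr (img i j) := by
  fin_cases i
  exacts [ctr_img0, ctr_img1, ctr_img2, ctr_img3, ctr_img4]

/-- a line not kept by the cyclic shift -/
def j0 : Fin 105 := 0

theorem shift_moves : ∀ j, ∃ a b, (stdB *ᵥ ctr j0) a * ctr j b ≠ (stdB *ᵥ ctr j0) b * ctr j a := by decide +kernel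

theorem stdB_unitary : stdBᵀ * stdB.map (fun a => a ^ 5) = 1 := by decide +kernel

theorem stdB_det : stdB.det = 1 := by decide +kernel

/-- the element with given coordinates -/
def mk5 (x : Fin 5 × Fin 5) : Q5 := ⟨(x.1 : ℕ), (x.2 : ℕ)⟩

/-- seventh power -/
def pow7 (A : M5) : M5 :=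
  let B := A * A
  let C := B * B
  C * B * A

theorem solve_aux : ∀ x y : Fin 5 × Fin 5, pow7 (stdA (mk5 x) (mk5 y) * stdB) = 1 →
    (mk5 x = r0 ∧ mk5 y = s0) ∨ (mk5 x = s0 ∧ mk5 y = r0) := by
  decide +kernel

theorem solve (r s : Q5) (h : (stdA r s * stdB) ^ 7 = 1) : (r = r0 ∧ s = s0) ∨ (r = s0 ∧ s = r0) := by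
  have hm : ∀ r : Q5, ∃ x, mk5 x = r := fun r =>
    ⟨(⟨r.re.val, r.re.val_lt⟩, ⟨r.im.val, r.im.val_lt⟩), by ext <;> simp [mk5]⟩
  obtain ⟨x, rfl⟩ := hm r
  obtain ⟨y, rfl⟩ := hm s
  refine solve_aux x y ?_
  rw [← h]
  simp only [pow7, pow_succ, pow_zero, one_mul, Matrix.mul_assoc]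

end Cfsg.Agent.PSLThree.Rep5
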