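import Cfsg.Agent.Lib.PSLThree.Rep5.Data
import Cfsg.Agent.Lib.PSLThree.Over.Small
import Cfsg.Agent.Aschbacher.Forms
import Cfsg.Agent.Lib.PSLThree.Basic.Inv
import Cfsg.Agent.S0243
import Cfsg.Prelude.Def_GeometricClasses

/-!
# `L₂(7)` is not maximal in `SU₃(5)`

A core `P` with `P` modulo scalars isomorphic to `L₂(7)` is generated by a homology and an element of order
three; in the frame given by the images of the centre they are one of two pairs, both conjugate, by a unitary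
similitude, into the triple cover of `A₇`.

* `not_maximal_five`.
-/

set_option autoImplicit false
set_option linter.unusedSectionVars false
set_option linter.style.haveILetI false

namespace Cfsg.Agent.PSLThree.Rep5

open Matrix
open Cfsg.Agent.SimpleFacts.MinIndexPSUFive.Witness (Q5 X X_det X_unitary)
open Cfsg.Agent.Classical.GL2 (uniSL coe_uniSL)

variable {F : Type*} [Field F] [Fintype F]

local notation "GL3" => GL (Fin 3) F
local notation "Mat" => Matrix (Fin 3) (Fin 3) F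

instance instPrimeFive : Fact (Nat.Prime 5) := ⟨by norm_num⟩

instance instFieldFact : Fact (∀ r : ZMod 5, r ^ 2 ≠ 3 + 4 * r) := ⟨by decide⟩

theorem exists_equiv (hF : Fintype.card F = 25) : Nonempty (Q5 ≃+* F) := by
  haveI : Fintype Q5 := Fintype.ofEquiv _ (QuadraticAlgebra.equivProd (R := ZMod 5) 3 4).symm
  exact ⟨FiniteField.ringEquivOfCardEq (K := Q5) (K' := F) (by
    rw [hF, Fintype.card_congr (QuadraticAlgebra.equivProd (R := ZMod 5) 3 4), Fintype.card_prod, ZMod.card])⟩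

/-- transport of a matrix -/
def tr (ψ : Q5 ≃+* F) (A : M5) : Mat := A.map ψ

theorem tr_mul (ψ : Q5 ≃+* F) (A B : M5) : tr ψ (A * B) = tr ψ A * tr ψ B := Matrix.map_mul

theorem tr_one (ψ : Q5 ≃+* F) : tr ψ 1 = 1 := Matrix.map_one _ (map_zero ψ) (map_one ψ)

theorem tr_det (ψ : Q5 ≃+* F) (A : M5) : (tr ψ A).det = ψ A.det :=
  (RingHom.map_det (ψ : Q5 →+* F) A).symm

/-- transport of a unit -/
noncomputable def trU (ψ : Q5 ≃+* F) (A : M5) (h : A.det = 1) : GL3 :=
  Matrix.GeneralLinearGroup.mk'' (tr ψ A) (by rw [tr_det, h, map_one]; exact isUnit_one)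

theorem preserves_of_matrix [CharP F 5] {A : Mat} (h : Aᵀ * A.map (fun a => a ^ 5) = 1) (u v : Fin 3 → F) :
    Cfsg.hermForm 3 F 5 (A *ᵥ u) (A *ᵥ v) = Cfsg.hermForm 3 F 5 u v := by
  haveI : Fact (Nat.Prime 5) := ⟨by norm_num⟩
  have hv : (fun i => (A *ᵥ v) i ^ 5) = A.map (fun a => a ^ 5) *ᵥ fun i => v i ^ 5 := funext fun i => by
    simp only [Matrix.mulVec, dotProduct, sum_pow_char, mul_pow, Matrix.map_apply]
  show (A *ᵥ u) ⬝ᵥ (fun i => (A *ᵥ v) i ^ 5) = u ⬝ᵥ fun i => v i ^ 5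
  rw [hv, ← vecMul_transpose, ← dotProduct_mulVec, mulVec_mulVec, h, one_mulVec]

theorem mem_GU_of_matrix [CharP F 5] {g : GL3} (h : (g : Mat)ᵀ * (g : Mat).map (fun a => a ^ 5) = 1) :
    g ∈ Cfsg.GU 3 F 5 := fun u v => preserves_of_matrix h u v

theorem matrix_of_GU {g : GL3} (h : g ∈ Cfsg.GU 3 F 5) : (g : Mat)ᵀ * (g : Mat).map (fun a => a ^ 5) = 1 := by
  ext i j
  have h1 : Cfsg.hermForm 3 F 5 ((g : Mat) *ᵥ Pi.single i 1) ((g : Mat) *ᵥ Pi.single j 1) =
      Cfsg.hermForm 3 F 5 (Pi.single i 1) (Pi.single j 1) := h _ _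
  simpa [Cfsg.hermForm, Matrix.mul_apply, Matrix.mulVec_single, Matrix.one_apply, Pi.single_apply, ite_pow,
    eq_comm] using h1

/-- the special unitary group -/
abbrev SUg (F : Type*) [Field F] [Fintype F] : Subgroup (GL (Fin 3) F) :=
  Cfsg.GU 3 F 5 ⊓ Cfsg.Geo.specialLinear (Fin 3) F

theorem mem_sl {g : GL3} (h : (g : Mat).det = 1) : g ∈ Cfsg.Geo.specialLinear (Fin 3) F :=
  MonoidHom.mem_ker.2 (Units.ext h)

theorem trU_mem [CharP F 5] (ψ : Q5 ≃+* F) (A : M5) (h : A.det = 1)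
    (hu : Aᵀ * A.map (fun a => a ^ 5) = 1) : trU ψ A h ∈ SUg F := by
  refine ⟨mem_GU_of_matrix ?_, mem_sl ?_⟩
  · show (A.map ψ)ᵀ * (A.map ψ).map (fun a => a ^ 5) = 1
    rw [show (A.map ψ).map (fun a => a ^ 5) = (A.map (fun a => a ^ 5)).map ψ by ext i j; simp [map_pow],
      ← Matrix.transpose_map, ← Matrix.map_mul, hu, Matrix.map_one _ (map_zero ψ) (map_one ψ)]
  · exact (tr_det ψ A).trans (by rw [h, map_one])

/-- the triple cover of `A₇` -/
noncomputable def cover (ψ : Q5 ≃+* F) : Subgroup GL3 :=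
  Subgroup.closure (Set.range (fun i => trU ψ (X i) (X_det i)) ∪
    ((SUg F ⊓ Cfsg.Geo.scalars (Fin 3) F : Subgroup GL3) : Set GL3))

theorem gen_mem (ψ : Q5 ≃+* F) (i : Fin 5) : trU ψ (X i) (X_det i) ∈ cover ψ :=
  Subgroup.subset_closure (Or.inl ⟨i, rfl⟩)

theorem scalar_mem_cover (ψ : Q5 ≃+* F) {s : GL3} (h : s ∈ SUg F) (hs : s ∈ Cfsg.Geo.scalars (Fin 3) F) :
    s ∈ cover ψ := Subgroup.subset_closure (Or.inr ⟨h, hs⟩)

theorem cover_le [CharP F 5] (ψ : Q5 ≃+* F) : cover ψ ≤ SUg F := by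
  refine (Subgroup.closure_le _).2 ?_
  rintro x (⟨i, rfl⟩ | h)
  · exact trU_mem ψ _ _ (X_unitary i)
  · exact h.1

/-- the cover permutes the 105 lines -/
theorem cover_lines (ψ : Q5 ≃+* F) {g : GL3} (hg : g ∈ cover ψ) :
    ∀ j, ∃ j' : Fin 105, ∃ c : F, (g : Mat) *ᵥ (ψ ∘ ctr j) = c • (ψ ∘ ctr j') := by
  have hg' : g ∈ Submonoid.closure (Set.range (fun i => trU ψ (X i) (X_det i)) ∪
      ((SUg F ⊓ Cfsg.Geo.scalars (Fin 3) F : Subgroup GL3) : Set GL3)) := by
    rw [← Subgroup.closure_toSubmonoid_of_finite]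
    exact hg
  clear hg
  induction hg' using Submonoid.closure_induction with
  | mem x hx =>
    intro j
    rcases hx with ⟨i, rfl⟩ | ⟨-, hs⟩
    · refine ⟨img i j, ψ (fac i j), funext fun k => ?_⟩
      show ((X i).map (ψ : Q5 →+* F) *ᵥ ((ψ : Q5 →+* F) ∘ ctr j)) k = _
      rw [← RingHom.map_mulVec, ctr_img i j]
      simp
    · obtain ⟨c, hc⟩ := (Cfsg.Geo.mem_scalars_iff x).1 hs
      exact ⟨j, c, by rw [hc, Matrix.smul_mulVec, Matrix.one_mulVec]⟩
  | one => exact fun j => ⟨j, 1, by rw [Units.val_one, Matrix.one_mulVec, one_smul]⟩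
  | mul x y _ _ hx hy =>
    intro j
    obtain ⟨j1, c, hc⟩ := hy j
    obtain ⟨j2, d, hd⟩ := hx j1
    exact ⟨j2, c * d, by rw [Units.val_mul, ← Matrix.mulVec_mulVec, hc, Matrix.mulVec_smul, hd, smul_smul]⟩

theorem shift_not_mem (ψ : Q5 ≃+* F) : trU ψ stdB stdB_det ∉ cover ψ := by
  intro h
  obtain ⟨j, c, hc⟩ := cover_lines ψ h j0
  obtain ⟨a, b, hab⟩ := shift_moves j
  have e : ∀ k, ψ ((stdB *ᵥ ctr j0) k) = c * ψ (ctr j k) := fun k => by
    have := congrFun hc k
    change (stdB.map (ψ : Q5 →+* F) *ᵥ ((ψ : Q5 →+* F) ∘ ctr j0)) k = _ at this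
    rw [← RingHom.map_mulVec] at this
    exact this
  refine hab (ψ.injective ?_)
  rw [map_mul, map_mul, e a, e b]
  ring

theorem scalar_comm' {s : GL3} (hs : s ∈ Cfsg.Geo.scalars (Fin 3) F) (g : GL3) : s * g = g * s :=
  (scalar_comm hs g).eq

/-- an element of the projective group of order two with an element of order seven, product of order three -/
theorem exists_triple (K : Type) [Field K] [Fintype K] (hK : Fintype.card K = 7) :
    ∃ x z : Matrix.ProjectiveSpecialLinearGroup (Fin 2) K, x * x = 1 ∧ x ≠ 1 ∧ z ^ 7 = 1 ∧ z ≠ 1 ∧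
      (x * z) ^ 3 = 1 ∧ x * z ≠ 1 := by
  haveI : Fact (Nat.Prime 7) := ⟨by norm_num⟩
  haveI : CharP K 7 := charP_of_card_eq_prime_pow (f := 1) (by rw [hK, pow_one])
  let S : Matrix.SpecialLinearGroup (Fin 2) K := ⟨!![0, -1; 1, 0], by simp [Matrix.det_fin_two]⟩
  have hmk : ∀ A : Matrix.SpecialLinearGroup (Fin 2) K,
      ((A : Matrix (Fin 2) (Fin 2) K) = 1 ∨ (A : Matrix (Fin 2) (Fin 2) K) = -1) →
      (QuotientGroup.mk A : Matrix.ProjectiveSpecialLinearGroup (Fin 2) K) = 1 := by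
    intro A hA
    rw [QuotientGroup.eq_one_iff, Subgroup.mem_center_iff]
    intro B
    refine Subtype.ext ?_
    show (B : Matrix (Fin 2) (Fin 2) K) * A = A * B
    rcases hA with h | h <;> rw [h] <;> simp
  have hne : ∀ A : Matrix.SpecialLinearGroup (Fin 2) K,
      (A : Matrix (Fin 2) (Fin 2) K) 0 1 ≠ 0 ∨ (A : Matrix (Fin 2) (Fin 2) K) 1 0 ≠ 0 →
      (QuotientGroup.mk A : Matrix.ProjectiveSpecialLinearGroup (Fin 2) K) ≠ 1 := by
    intro A hA h
    rw [QuotientGroup.eq_one_iff, Matrix.SpecialLinearGroup.mem_center_iff] at h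
    obtain ⟨r, -, hr⟩ := h
    rw [← hr] at hA
    simp at hA
  refine ⟨QuotientGroup.mk S, uniBar 1, ?_, hne _ (Or.inr ?_), ?_, ?_, ?_, hne _ (Or.inr ?_)⟩
  · rw [← QuotientGroup.mk_mul]
    refine hmk _ (Or.inr ?_)
    show (!![0, -1; 1, 0] : Matrix (Fin 2) (Fin 2) K) * !![0, -1; 1, 0] = -1
    ext i j; fin_cases i <;> fin_cases j <;> simp [Matrix.mul_apply, Fin.sum_univ_two]
  · simp [S]
  · rw [uniBar_nat, CharP.cast_eq_zero K 7, zero_mul, uniBar_zero]
  · intro h
    exact one_ne_zero (uniBar_injective (h.trans uniBar_zero.symm))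
  · rw [uniBar, ← QuotientGroup.mk_mul, ← QuotientGroup.mk_pow]
    refine hmk _ (Or.inr ?_)
    rw [Matrix.SpecialLinearGroup.coe_pow, Matrix.SpecialLinearGroup.coe_mul]
    ext i j
    fin_cases i <;> fin_cases j <;>
      simp [S, uniSL, pow_succ, Matrix.mul_apply, Fin.sum_univ_two]
  · rw [Matrix.SpecialLinearGroup.coe_mul]
    simp [S, uniSL, Matrix.mul_apply, Fin.sum_univ_two]

/-- two elements of `L₂(7)` of order two and seven with product of order three generate it -/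
theorem closure_eq_top {N : Type*} [Group N] [Finite N] [IsSimpleGroup N] (hN : Nat.card N = 168) {x z : N}
    (hx : x * x = 1) (hx1 : x ≠ 1) (hz : z ^ 7 = 1) (hz1 : z ≠ 1) (hy : (x * z) ^ 3 = 1) (hy1 : x * z ≠ 1) :
    Subgroup.closure {x, z} = ⊤ := by
  classical
  haveI : Fact (Nat.Prime 2) := ⟨Nat.prime_two⟩
  haveI : Fact (Nat.Prime 3) := ⟨Nat.prime_three⟩
  haveI : Fact (Nat.Prime 7) := ⟨by norm_num⟩
  set L := Subgroup.closure ({x, z} : Set N) with hL
  have hxL : x ∈ L := Subgroup.subset_closure (by simp)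
  have hzL : z ∈ L := Subgroup.subset_closure (by simp)
  have h2 : 2 ∣ Nat.card ↥L := by
    rw [← orderOf_eq_prime (p := 2) (x := x) (by rw [pow_two, hx]) hx1]
    exact Subgroup.orderOf_dvd_natCard _ hxL
  have h3 : 3 ∣ Nat.card ↥L := by
    rw [← orderOf_eq_prime (p := 3) hy hy1]
    exact Subgroup.orderOf_dvd_natCard _ (mul_mem hxL hzL)
  have h7 : 7 ∣ Nat.card ↥L := by
    rw [← orderOf_eq_prime (p := 7) hz hz1]
    exact Subgroup.orderOf_dvd_natCard _ hzL
  by_contra hne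
  have hinj : Function.Injective (MulAction.toPermHom N (N ⧸ L)) := by
    rw [← MonoidHom.ker_eq_bot_iff, ← Subgroup.normalCore_eq_ker]
    exact (L.normalCore_normal.eq_bot_or_eq_top).resolve_right fun h =>
      hne (eq_top_iff.2 (h ▸ L.normalCore_le))
  have hd := Subgroup.card_dvd_of_injective _ hinj
  rw [Nat.card_perm, hN] at hd
  change 168 ∣ L.index.factorial at hd
  have hmul := L.card_mul_index
  rw [hN] at hmul
  have h42 : 42 ∣ Nat.card ↥L :=
    Nat.Coprime.mul_dvd_of_dvd_of_dvd (by norm_num : Nat.Coprime 6 7)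
      (Nat.Coprime.mul_dvd_of_dvd_of_dvd (by norm_num : Nat.Coprime 2 3) h2 h3) h7
  have hpos : 0 < L.index := Nat.pos_of_ne_zero L.index_ne_zero_of_finite
  have hle : L.index ≤ 4 := by
    obtain ⟨t, ht⟩ := h42
    rw [ht] at hmul
    have : 1 ≤ t := by
      rcases Nat.eq_zero_or_pos t with rfl | h
      · simp at hmul
      · exact h
    nlinarith
  interval_cases h : L.index <;> norm_num [Nat.factorial] at hd
  
/-- the swap of the last two coordinates -/
def sw : M5 := !![1, 0, 0; 0, 0, 1; 0, 1, 0]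

theorem stdA_swap : stdA s0 r0 * sw = sw * stdA r0 s0 := by decide +kernel

theorem stdB_swap : stdB * stdB * sw = sw * stdB := by decide +kernel

theorem sw_det : sw.det = -1 := by decide +kernel

theorem three_not_sq : ∀ q : ZMod 7, ((3 : ℕ) : ZMod 7) ≠ q * q := by decide

/-- **`L₂(7)` is not maximal in `SU₃(5)`.** -/
theorem not_maximal_five (hF : Fintype.card F = 25) {H P : Subgroup GL3}
    (hH : Cfsg.Geo.IsMaximalIn (Cfsg.GU 3 F 5 ⊓ Cfsg.Geo.specialLinear (Fin 3) F) H)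
    (hP : Cfsg.Geo.IsResidualCore H P) {K : Type} [Field K] [Fintype K] (hK : Fintype.card K = 7)
    (e : Bar P ≃* Matrix.ProjectiveSpecialLinearGroup (Fin 2) K) : False := by
  classical
  haveI : Fact (Nat.Prime 5) := ⟨by norm_num⟩
  haveI : Fact (Nat.Prime 7) := ⟨by norm_num⟩
  haveI : CharP F 5 := charP_of_card_eq_prime_pow (f := 2) (by rw [hF]; norm_num)
  haveI : CharP K 7 := charP_of_card_eq_prime_pow (f := 1) (by rw [hK, pow_one])
  obtain ⟨ψ⟩ := exists_equiv hF
  have h2 : (2 : F) ≠ 0 := fun h => by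
    have : (5 : ℕ) ∣ 2 := (CharP.cast_eq_zero_iff F 5 2).1 (by exact_mod_cast h)
    omega
  have hHsu : H ≤ SUg F := hH.1.le
  have hHsl : H ≤ Cfsg.Geo.specialLinear (Fin 3) F := hHsu.trans inf_le_right
  have hPsl : P ≤ Cfsg.Geo.specialLinear (Fin 3) F := hP.le.trans hHsl
  have hO : Over H P :=
    ⟨⟨hPsl, hP.perfect, hP.simple, hP.nonabelian, hP.absIrred.1⟩, hHsl, hP.le, hP.normal, hP.centralizer_scalar⟩
  haveI : IsSimpleGroup (Bar P) := hP.simple
  have hcardN : Nat.card (Matrix.ProjectiveSpecialLinearGroup (Fin 2) K) = 168 := by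
    have h := S0243.result hK 2 le_rfl
    norm_num [Fin.prod_univ_two] at h
    simp only [Nat.card_eq_fintype_card] at h ⊢
    omega
  have hcardP : Nat.card (Bar P) = 168 := by rw [Nat.card_congr e.toEquiv, hcardN]
  -- the generators
  obtain ⟨x, z, hx, hx1, hz, hz1, hy, hy1⟩ := exists_triple K hK
  set x' := e.symm x
  set z' := e.symm z
  have hx' : x' * x' = 1 := by rw [← map_mul, hx, map_one]
  have hz' : z' ^ 7 = 1 := by rw [← map_pow, hz, map_one]
  have hy' : (x' * z') ^ 3 = 1 := by rw [← map_mul, ← map_pow, hy, map_one]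
  have hgen : Subgroup.closure {x', z'} = ⊤ :=
    closure_eq_top hcardP hx' (fun h => hx1 (e.symm.injective (h.trans (map_one _).symm))) hz'
      (fun h => hz1 (e.symm.injective (h.trans (map_one _).symm))) hy'
      (fun h => hy1 (e.symm.injective (by rw [map_mul, map_one]; exact h)))
  obtain ⟨a, ha, haa, hax⟩ := exists_inv_lift hPsl hx'
  obtain ⟨c, hc, hc7, hcz⟩ := exists_lift hPsl (n := 7) (by norm_num) hz'
  set b := a * c with hb
  have hbP : b ∈ P := mul_mem ha hc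
  have hb3 : b ^ 3 ∈ Cfsg.Geo.scalars (Fin 3) F := by
    refine mk_eq_one.1 (?_ : ((⟨b ^ 3, pow_mem hbP 3⟩ : P) : Bar P) = 1)
    rw [show (⟨b ^ 3, pow_mem hbP 3⟩ : P) = (⟨a, ha⟩ * ⟨c, hc⟩) ^ 3 from rfl, QuotientGroup.mk_pow,
      QuotientGroup.mk_mul, hax, hcz, hy']
  have ha1 : a ≠ 1 := by
    intro h
    refine hx1 (e.symm.injective ?_)
    rw [map_one]
    show x' = 1
    rw [← hax]
    exact mk_eq_one.2 (h ▸ one_mem _)
  obtain ⟨u, φ, hφu, ea⟩ := exists_homology h2 hPsl ha haa ha1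
  -- `P` lies in what `a` and `b` generate
  have hgenP : P ≤ Subgroup.closure {a, b} := by
    have hmem : ∀ g (hg : g ∈ P), ∃ w ∈ Subgroup.closure {a, b} ⊓ P, w⁻¹ * g ∈ Cfsg.Geo.scalars (Fin 3) F := by
      intro g hg
      have h : ((⟨g, hg⟩ : P) : Bar P) ∈ Subgroup.closure {x', z'} := by rw [hgen]; exact Subgroup.mem_top _
      have key : ∀ q ∈ Subgroup.closure ({x', z'} : Set (Bar P)),
          ∃ w : P, (w : GL3) ∈ Subgroup.closure {a, b} ∧ (w : Bar P) = q := by
        intro q hq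
        induction hq using Subgroup.closure_induction with
        | mem q hq =>
          rcases hq with rfl | rfl
          · exact ⟨⟨a, ha⟩, Subgroup.subset_closure (by simp), hax⟩
          · refine ⟨⟨c, hc⟩, ?_, hcz⟩
            have e' : c = a * b := by rw [hb, ← mul_assoc, haa, one_mul]
            show c ∈ _
            rw [e']
            exact mul_mem (Subgroup.subset_closure (by simp)) (Subgroup.subset_closure (by simp))
        | one => exact ⟨1, one_mem _, rfl⟩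
        | mul q q' _ _ hq hq' =>
          obtain ⟨w, hw, rfl⟩ := hq
          obtain ⟨w', hw', rfl⟩ := hq'
          exact ⟨w * w', mul_mem hw hw', rfl⟩
        | inv q _ hq =>
          obtain ⟨w, hw, rfl⟩ := hq
          exact ⟨w⁻¹, inv_mem hw, rfl⟩
      obtain ⟨⟨w, hwP⟩, hw, hwq⟩ := key _ h
      exact ⟨w, ⟨hw, hwP⟩, (mk_eq (hg := hwP) (hh := hg)).1 hwq⟩
    calc P = ⁅P, P⁆ := hP.perfect.symm
      _ ≤ Subgroup.closure {a, b} := Subgroup.commutator_le.2 fun g hg g' hg' => by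
        obtain ⟨w, ⟨hw, -⟩, hs⟩ := hmem g hg
        obtain ⟨w', ⟨hw', -⟩, hs'⟩ := hmem g' hg'
        set s := w⁻¹ * g
        set s' := w'⁻¹ * g'
        have eg : g = w * s := (mul_inv_cancel_left w g).symm
        have eg' : g' = w' * s' := (mul_inv_cancel_left w' g').symm
        rw [commutatorElement_def, eg, eg']
        have e1 : w * s * (w' * s') * (w * s)⁻¹ * (w' * s')⁻¹ = w * w' * w⁻¹ * w'⁻¹ := by
          have c1 : ∀ t, s * t = t * s := scalar_comm' hs
          have c2 : ∀ t, s' * t = t * s' := scalar_comm' hs'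
          calc w * s * (w' * s') * (w * s)⁻¹ * (w' * s')⁻¹
              = w * (s * (w' * s')) * s⁻¹ * w⁻¹ * s'⁻¹ * w'⁻¹ := by group
            _ = w * (w' * s') * w⁻¹ * s'⁻¹ * w'⁻¹ := by rw [c1]; group
            _ = w * w' * (s' * w⁻¹) * s'⁻¹ * w'⁻¹ := by group
            _ = w * w' * w⁻¹ * w'⁻¹ := by rw [c2]; group
        rw [e1]
        exact mul_mem (mul_mem (mul_mem hw hw') (inv_mem hw)) (inv_mem hw')
  -- the frame
  set M : Mat := Matrix.of fun i j => (![u, (b : Mat) *ᵥ u, (b : Mat) *ᵥ ((b : Mat) *ᵥ u)] j) i with hM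
  obtain ⟨σ, hσ⟩ := (Cfsg.Geo.mem_scalars_iff _).1 hb3
  have hb3' : (b : Mat) *ᵥ ((b : Mat) *ᵥ ((b : Mat) *ᵥ u)) = (σ : F) • u := by
    rw [Matrix.mulVec_mulVec, Matrix.mulVec_mulVec, ← Units.val_mul, ← Units.val_mul,
      show b * b * b = b ^ 3 by simp [pow_succ], hσ, Matrix.smul_mulVec, Matrix.one_mulVec]
  have hau : ∀ w, (a : Mat) *ᵥ w = ((2 : F) * (φ ⬝ᵥ w)) • u - w := fun w => by
    rw [ea, Matrix.sub_mulVec, Matrix.one_mulVec, Matrix.smul_mulVec, Matrix.vecMulVec_mulVec, op_smul_eq_smul,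
      smul_smul]
  have hMdet : M.det ≠ 0 := by
    intro h0
    set W : Submodule F (Fin 3 → F) := Submodule.span F (Set.range fun j => M.col j) with hW
    have hcol : ∀ j, M.col j = (![u, (b : Mat) *ᵥ u, (b : Mat) *ᵥ ((b : Mat) *ᵥ u)] j) := fun j => rfl
    have huW : u ∈ W := Submodule.subset_span ⟨0, hcol 0⟩
    have hbW : ∀ w ∈ W, (b : Mat) *ᵥ w ∈ W := by
      intro w hw
      have : W ≤ W.comap (Matrix.toLin' (b : Mat)) := Submodule.span_le.2 (by
        rintro _ ⟨j, rfl⟩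
        show Matrix.toLin' (b : Mat) (M.col j) ∈ W
        rw [Matrix.toLin'_apply, hcol]
        fin_cases j
        · exact Submodule.subset_span ⟨1, hcol 1⟩
        · exact Submodule.subset_span ⟨2, hcol 2⟩
        · show (b : Mat) *ᵥ ((b : Mat) *ᵥ ((b : Mat) *ᵥ u)) ∈ W
          rw [hb3']
          exact W.smul_mem _ huW)
      simpa using this hw
    have haW : ∀ w ∈ W, (a : Mat) *ᵥ w ∈ W := fun w hw => by
      rw [hau]; exact W.sub_mem (W.smul_mem _ huW) hw
    have hPW : ∀ g ∈ Subgroup.closure ({a, b} : Set GL3), ∀ w ∈ W, (g : Mat) *ᵥ w ∈ W := by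
      intro g hg
      have hg' : g ∈ Submonoid.closure ({a, b} : Set GL3) := by
        rw [← Subgroup.closure_toSubmonoid_of_finite]; exact hg
      clear hg
      induction hg' using Submonoid.closure_induction with
      | mem q hq => rcases hq with rfl | rfl <;> assumption
      | one => intro w hw; rwa [Units.val_one, Matrix.one_mulVec]
      | mul q q' _ _ hq hq' =>
        intro w hw
        rw [Units.val_mul, ← Matrix.mulVec_mulVec]
        exact hq _ (hq' w hw)
    rcases hP.absIrred.1 W (by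
      rintro _ ⟨g, hg, rfl⟩
      rintro _ ⟨w, hw, rfl⟩
      rw [Matrix.toLin'_apply]
      exact hPW g (hgenP hg) w hw) with h | h
    · have hu0 : u = 0 := by rw [h] at huW; exact (Submodule.mem_bot F).1 huW
      rw [hu0, dotProduct_zero] at hφu
      exact zero_ne_one hφu
    · have : LinearIndependent F (fun j => M.col j) := by
        rw [linearIndependent_iff_card_eq_finrank_span, Set.finrank, ← hW, h, finrank_top,
          Module.finrank_fintype_fun_eq_card]
      exact (Matrix.linearIndependent_cols_iff_isUnit.1 this |> (Matrix.isUnit_iff_isUnit_det M).1).ne_zero h0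
  set r := φ ⬝ᵥ ((b : Mat) *ᵥ u) with hr
  set s := φ ⬝ᵥ ((b : Mat) *ᵥ ((b : Mat) *ᵥ u)) with hs
  have haM : (a : Mat) * M = M * !![1, 2 * r, 2 * s; 0, -1, 0; 0, 0, -1] := by
    ext i j
    have hc' : ((a : Mat) * M) i j = ((a : Mat) *ᵥ M.col j) i := rfl
    rw [hc', Matrix.mul_apply, Fin.sum_univ_three]
    fin_cases j
    · show ((a : Mat) *ᵥ u) i = _
      rw [hau, hφu]
      simp [hM]
      ring
    · show ((a : Mat) *ᵥ ((b : Mat) *ᵥ u)) i = _
      rw [hau, ← hr]
      simp [hM]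
      ring
    · show ((a : Mat) *ᵥ ((b : Mat) *ᵥ ((b : Mat) *ᵥ u))) i = _
      rw [hau, ← hs]
      simp [hM]
      ring
  have hbM0 : (b : Mat) * M = M * !![0, 0, (σ : F); 1, 0, 0; 0, 1, 0] := by
    ext i j
    have hc' : ((b : Mat) * M) i j = ((b : Mat) *ᵥ M.col j) i := rfl
    rw [hc', Matrix.mul_apply, Fin.sum_univ_three]
    fin_cases j
    · show ((b : Mat) *ᵥ u) i = _
      simp [hM]
    · show ((b : Mat) *ᵥ ((b : Mat) *ᵥ u)) i = _
      simp [hM]
    · show ((b : Mat) *ᵥ ((b : Mat) *ᵥ ((b : Mat) *ᵥ u))) i = _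
      rw [hb3']
      simp [hM]
      ring
  have hσ1 : (σ : F) = 1 := by
    have := congrArg Matrix.det hbM0
    rw [det_mul, det_mul, det_eq_one hPsl hbP, one_mul] at this
    have hd3 : (!![0, 0, (σ : F); 1, 0, 0; 0, 1, 0] : Mat).det = σ := by simp [Matrix.det_fin_three]
    rw [hd3] at this
    exact (mul_eq_left₀ hMdet).1 this.symm
  rw [hσ1] at hbM0 hσ
  -- the parameters
  obtain ⟨r', hr'⟩ := ψ.surjective r
  obtain ⟨s', hs'⟩ := ψ.surjective s
  have hA : tr ψ (stdA r' s') = !![1, 2 * r, 2 * s; 0, -1, 0; 0, 0, -1] := by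
    rw [← hr', ← hs']
    ext i j
    fin_cases i <;> fin_cases j <;> simp [tr, stdA, map_ofNat]
  have hB : tr ψ stdB = (!![0, 0, 1; 1, 0, 0; 0, 1, 0] : Mat) := by
    ext i j
    fin_cases i <;> fin_cases j <;> simp [tr, stdB]
  rw [← hA] at haM
  rw [← hB] at hbM0
  have hMu : IsUnit M.det := isUnit_iff_ne_zero.2 hMdet
  have hpow : ∀ n : ℕ, ((a * b : GL3) : Mat) ^ n * M = M * tr ψ (stdA r' s' * stdB) ^ n := by
    intro n
    induction n with
    | zero => simp
    | succ n ih =>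
      rw [pow_succ, pow_succ, Matrix.mul_assoc, Units.val_mul, Matrix.mul_assoc (a : Mat), hbM0,
        ← Matrix.mul_assoc (a : Mat), haM, Matrix.mul_assoc M, ← tr_mul, ← Matrix.mul_assoc, ← Units.val_mul, ih,
        Matrix.mul_assoc]
  have hab : a * b = c := by rw [hb, ← mul_assoc, haa, one_mul]
  have h7 : (stdA r' s' * stdB) ^ 7 = 1 := by
    have h := hpow 7
    rw [hab, ← Units.val_pow_eq_pow_val, hc7, Units.val_one, Matrix.one_mul] at h
    have h' : tr ψ (stdA r' s' * stdB) ^ 7 = 1 := by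
      have := congrArg (fun Y => M⁻¹ * Y) h
      simp only [← Matrix.mul_assoc, Matrix.nonsing_inv_mul M hMu, Matrix.one_mul] at this
      exact this.symm
    have hp : ∀ n : ℕ, tr ψ ((stdA r' s' * stdB) ^ n) = tr ψ (stdA r' s' * stdB) ^ n := by
      intro n
      induction n with
      | zero => exact tr_one ψ
      | succ n ih => rw [pow_succ, pow_succ, tr_mul, ih]
    exact Matrix.map_injective ψ.injective ((hp 7).trans (h'.trans (tr_one ψ).symm))
  -- a standard frame for `a` and one of `b`, `b⁻¹`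
  obtain ⟨M', b', hM'd, hb'gen, haM', hbM'⟩ : ∃ (M' : Mat) (b' : GL3), IsUnit M'.det ∧
      b ∈ Subgroup.closure {b'} ∧
      (a : Mat) * M' = M' * tr ψ (stdA r0 s0) ∧ (b' : Mat) * M' = M' * tr ψ stdB := by
    rcases solve r' s' h7 with ⟨rfl, rfl⟩ | ⟨rfl, rfl⟩
    · exact ⟨M, b, hMu, Subgroup.subset_closure rfl, haM, hbM0⟩
    · have e1 := stdA_swap
      have e2 := stdB_swap
      refine ⟨M * tr ψ sw, b * b, ?_, ?_, ?_, ?_⟩
      · rw [det_mul, tr_det]
        refine hMu.mul ?_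
        rw [sw_det, map_neg, map_one]
        exact isUnit_one.neg
      · have hb3e : b ^ 3 = 1 := Units.ext (by rw [hσ, one_smul, Units.val_one])
        have : b = (b * b) * (b * b) := by
          rw [show b * b * (b * b) = b ^ 3 * b by simp [pow_succ, mul_assoc], hb3e, one_mul]
        have hm : b * b * (b * b) ∈ Subgroup.closure {b * b} :=
          mul_mem (Subgroup.subset_closure rfl) (Subgroup.subset_closure rfl)
        rwa [← this] at hm
      · rw [← Matrix.mul_assoc, haM, Matrix.mul_assoc, ← tr_mul, e1, tr_mul, Matrix.mul_assoc]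
      · calc ((b * b : GL3) : Mat) * (M * tr ψ sw) = (b : Mat) * (((b : Mat) * M) * tr ψ sw) := by
              rw [Units.val_mul]; simp only [Matrix.mul_assoc]
          _ = ((b : Mat) * M) * (tr ψ stdB * tr ψ sw) := by
              simp only [Matrix.mul_assoc]
              rw [← Matrix.mul_assoc (b : Mat) M (tr ψ sw), hbM0, Matrix.mul_assoc]
          _ = M * tr ψ (stdB * stdB * sw) := by
              rw [hbM0, tr_mul, tr_mul]; simp only [Matrix.mul_assoc]
          _ = M * tr ψ sw * tr ψ stdB := by rw [e2, tr_mul, Matrix.mul_assoc]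
  -- conjugation into the cover
  have hfd : IsUnit (tr ψ frame).det := by
    rw [tr_det]
    exact (IsUnit.of_mul_eq_one _ frame_det_inv).map ψ.toRingHom
  let g : GL3 := Matrix.GeneralLinearGroup.mk'' (tr ψ frame * M'⁻¹) (by
    rw [det_mul]; exact hfd.mul (Matrix.isUnit_nonsing_inv_det _ hM'd))
  have hgM : (g : Mat) * M' = tr ψ frame := by
    show tr ψ frame * M'⁻¹ * M' = _
    rw [Matrix.mul_assoc, Matrix.nonsing_inv_mul _ hM'd, Matrix.mul_one]
  have hcan : ∀ {Y Z : Mat}, Y * M' = Z * M' → Y = Z := fun {Y Z} h => by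
    have := congrArg (fun W => W * M'⁻¹) h
    simpa [Matrix.mul_assoc, Matrix.mul_nonsing_inv _ hM'd] using this
  let U : Fin 5 → GL3 := fun i => trU ψ (X i) (X_det i)
  have hwA : g * a * g⁻¹ = U 1 * U 2 := by
    rw [mul_inv_eq_iff_eq_mul]
    refine Units.ext (hcan ?_)
    rw [Units.val_mul, Units.val_mul, Units.val_mul, Matrix.mul_assoc, haM', ← Matrix.mul_assoc, hgM,
      Matrix.mul_assoc _ (g : Mat), hgM, ← tr_mul, ← wA_frame]
    show tr ψ (wA * frame) = tr ψ (X 1) * tr ψ (X 2) * tr ψ frame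
    rw [← tr_mul, ← tr_mul]; rfl
  have hwB : g * b' * g⁻¹ = U 0 * U 1 * U 4 * U 3 := by
    rw [mul_inv_eq_iff_eq_mul]
    refine Units.ext (hcan ?_)
    rw [Units.val_mul, Units.val_mul, Units.val_mul, Units.val_mul, Units.val_mul, Matrix.mul_assoc, hbM',
      ← Matrix.mul_assoc, hgM, Matrix.mul_assoc _ (g : Mat), hgM, ← tr_mul, ← wB_frame]
    show tr ψ (wB * frame) = tr ψ (X 0) * tr ψ (X 1) * tr ψ (X 4) * tr ψ (X 3) * tr ψ frame
    rw [← tr_mul, ← tr_mul, ← tr_mul, ← tr_mul]; rfl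
  have hconjP : ∀ p ∈ P, g * p * g⁻¹ ∈ cover ψ := by
    intro p hp
    have hle : Subgroup.closure {a, b} ≤ (cover ψ).comap (MulAut.conj g).toMonoidHom := by
      rw [Subgroup.closure_le]
      rintro q (rfl | rfl)
      · show g * q * g⁻¹ ∈ cover ψ
        rw [hwA]; exact mul_mem (gen_mem ψ 1) (gen_mem ψ 2)
      · refine (Subgroup.closure_le _).2 ?_ hb'gen
        rintro w rfl
        show g * w * g⁻¹ ∈ cover ψ
        rw [hwB]
        exact mul_mem (mul_mem (mul_mem (gen_mem ψ 0) (gen_mem ψ 1)) (gen_mem ψ 4)) (gen_mem ψ 3)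
    exact hle (hgenP hp)
  -- the similitude
  let frob : F →+* F := frobenius F 5
  have hfix1 : Cfsg.Agent.Aschbacher.Fixes frob P (1 : Mat) := fun p hp => by
    rw [Matrix.mul_one]
    exact matrix_of_GU (hHsu (hP.le hp)).1
  have hfixJ : Cfsg.Agent.Aschbacher.Fixes frob P ((g : Mat)ᵀ * (g : Mat).map frob) := fun p hp => by
    have h := matrix_of_GU (cover_le ψ (hconjP p hp)).1
    change ((g * p * g⁻¹ : GL3) : Mat)ᵀ * ((g * p * g⁻¹ : GL3) : Mat).map frob = 1 at h
    have e1 : (g : Mat) * (p : Mat) = ((g * p * g⁻¹ : GL3) : Mat) * (g : Mat) := by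
      rw [← Units.val_mul, ← Units.val_mul]; congr 1; group
    calc (p : Mat)ᵀ * ((g : Mat)ᵀ * (g : Mat).map frob) * (p : Mat).map frob
        = ((g : Mat) * (p : Mat))ᵀ * ((g : Mat) * (p : Mat)).map frob := by
          rw [Matrix.transpose_mul, Matrix.map_mul]; simp only [Matrix.mul_assoc]
      _ = (g : Mat)ᵀ * ((((g * p * g⁻¹ : GL3) : Mat))ᵀ * (((g * p * g⁻¹ : GL3) : Mat)).map frob) *
            (g : Mat).map frob := by
          rw [e1, Matrix.transpose_mul, Matrix.map_mul]; simp only [Matrix.mul_assoc]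
      _ = _ := by rw [h, Matrix.mul_one]
  obtain ⟨l, hl⟩ := Cfsg.Agent.Aschbacher.exists_smul_of_fixes frob hP.absIrred (T := 1)
    (by rw [det_one]; exact isUnit_one) hfix1 hfixJ
  have hgdet : (g : Mat).det ≠ 0 := (Matrix.GeneralLinearGroup.det g).ne_zero
  have hl0 : l ≠ 0 := by
    intro h0
    have := congrArg Matrix.det hl
    rw [h0, zero_smul, det_zero, det_mul, det_transpose, show ((g : Mat).map frob).det = frob (g : Mat).det from
      (RingHom.map_det frob (g : Mat)).symm, mul_eq_zero, map_eq_zero] at this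
    exact this.elim hgdet hgdet
  have hl5 : l ^ 5 = l := by
    have e00 : l = ∑ k, (g : Mat) k 0 * (g : Mat) k 0 ^ 5 := by
      have := congrFun (congrFun hl 0) 0
      simp [Matrix.mul_apply, frob, frobenius_def] at this
      rw [← this]
    rw [e00, sum_pow_char]
    refine Finset.sum_congr rfl fun k _ => ?_
    rw [mul_pow, ← pow_mul, mul_comm ((g : Mat) k 0 ^ 5), show (5 * 5 : ℕ) = Fintype.card F by rw [hF],
      FiniteField.pow_card]
  obtain ⟨μ, hμ⟩ : ∃ μ : Fˣ, μ ^ 6 = Units.mk0 l hl0 := by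
    set L : Fˣ := Units.mk0 l hl0
    have hL4 : L ^ 4 = 1 := Units.ext (mul_left_cancel₀ hl0 (by
      rw [Units.val_pow_eq_pow_val, Units.val_mk0, ← pow_succ', hl5, Units.val_one, mul_one]))
    obtain ⟨γ, hγ⟩ := IsCyclic.exists_generator (α := Fˣ)
    obtain ⟨k, hk⟩ := (Submonoid.mem_powers_iff _ _).1
      ((IsOfFinOrder.mem_powers_iff_mem_zpowers (isOfFinOrder_of_finite γ)).2 (hγ L))
    have hord : orderOf γ = 24 := by
      rw [orderOf_eq_card_of_forall_mem_zpowers hγ, Nat.card_units, Nat.card_eq_fintype_card, hF]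
    rw [← hk, ← pow_mul, ← orderOf_dvd_iff_pow_eq_one, hord] at hL4
    exact ⟨γ ^ (k / 6), by rw [← pow_mul, show k / 6 * 6 = k by omega, hk]⟩
  let m : GL3 := Units.map (Matrix.scalar (Fin 3) : F →+* Mat).toMonoidHom μ⁻¹
  have hms : m ∈ Cfsg.Geo.scalars (Fin 3) F := ⟨μ⁻¹, rfl⟩
  set g' := m * g with hg'
  have hg'U : g' ∈ Cfsg.GU 3 F 5 := by
    refine mem_GU_of_matrix ?_
    have hmv : (m : Mat) = ((μ⁻¹ : Fˣ) : F) • 1 := by
      show Matrix.scalar (Fin 3) ((μ⁻¹ : Fˣ) : F) = _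
      ext i j
      by_cases h : i = j <;> simp [h]
    have hmap : (((μ⁻¹ : Fˣ) : F) • (g : Mat)).map (fun a => a ^ 5) =
        (((μ⁻¹ : Fˣ) : F) ^ 5) • (g : Mat).map frob := by
      ext i j; simp [frob, frobenius_def, mul_pow]
    rw [Units.val_mul, hmv, Matrix.smul_mul, Matrix.one_mul, transpose_smul, hmap, Matrix.smul_mul,
      Matrix.mul_smul, smul_smul, hl, smul_smul,
      show ((μ⁻¹ : Fˣ) : F) * ((μ⁻¹ : Fˣ) : F) ^ 5 * l = ((μ⁻¹ ^ 6 * Units.mk0 l hl0 : Fˣ) : F) by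
        rw [Units.val_mul, Units.val_pow_eq_pow_val, Units.val_mk0]; ring,
      inv_pow, hμ, inv_mul_cancel, Units.val_one, one_smul]
  have hg'conj : ∀ p : GL3, g' * p * g'⁻¹ = g * p * g⁻¹ := by
    intro p
    have hc' := scalar_comm' hms (g * p * g⁻¹)
    calc g' * p * g'⁻¹ = (m * (g * p * g⁻¹)) * m⁻¹ := by rw [hg']; group
      _ = g * p * g⁻¹ := by rw [hc']; group
  -- the larger group
  obtain ⟨eH⟩ := over_prime hO (l := 7) (fun h => by
      have : (5 : ℕ) ∣ 7 := (CharP.cast_eq_zero_iff F 5 7).1 h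
      omega) (by norm_num) hK (k := 3) (by decide) (fun h => by
      have : (7 : ℕ) ∣ 3 := (CharP.cast_eq_zero_iff K 7 3).1 h
      omega) (fun h => by
      obtain ⟨q, hq⟩ := h
      let f : ZMod 7 →+* K := ZMod.castHom dvd_rfl K
      obtain ⟨q', rfl⟩ := (ZMod.castHom_bijective K (by rw [hK])).2 q
      have : ((3 : ℕ) : ZMod 7) = q' * q' := f.injective (by rw [map_natCast, map_mul]; exact hq)
      exact three_not_sq q' this) e
  have hcardH : Nat.card (Bar H) = 168 := by rw [Nat.card_congr eH.toEquiv, hcardN]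
  have hHdec : ∀ h ∈ H, ∃ p ∈ P, p⁻¹ * h ∈ Cfsg.Geo.scalars (Fin 3) F := by
    intro h hh
    let f : Bar P → Bar H := Quotient.map' (fun p : ↥P => (⟨(p : GL3), hP.le p.2⟩ : ↥H)) fun p q hpq => by
      rw [QuotientGroup.leftRel_apply, Subgroup.mem_subgroupOf] at hpq ⊢
      exact hpq
    have hinj : Function.Injective f := by
      intro q q'
      refine Quotient.inductionOn₂' q q' fun p p' hpp => ?_
      have : ((⟨(p : GL3), hP.le p.2⟩ : ↥H) : Bar H) = ((⟨(p' : GL3), hP.le p'.2⟩ : ↥H) : Bar H) := hpp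
      rw [mk_eq] at this
      exact (mk_eq (hg := p.2) (hh := p'.2)).2 this
    have hsur : Function.Surjective f :=
      ((Nat.bijective_iff_injective_and_card f).2 ⟨hinj, by rw [hcardP, hcardH]⟩).2
    obtain ⟨q, hq⟩ := hsur ((⟨h, hh⟩ : ↥H) : Bar H)
    obtain ⟨⟨p, hp⟩, rfl⟩ := QuotientGroup.mk_surjective q
    exact ⟨p, hp, (mk_eq (hg := hP.le hp) (hh := hh)).1 hq⟩
  set N := (cover ψ).comap (MulAut.conj g').toMonoidHom with hN
  have hHN : H ≤ N := by
    intro h hh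
    obtain ⟨p, hp, hs⟩ := hHdec h hh
    have hpN : g' * p * g'⁻¹ ∈ cover ψ := by rw [hg'conj]; exact hconjP p hp
    have hsN : g' * (p⁻¹ * h) * g'⁻¹ ∈ cover ψ := by
      rw [show g' * (p⁻¹ * h) * g'⁻¹ = p⁻¹ * h by rw [← scalar_comm' hs g']; group]
      exact scalar_mem_cover ψ (mul_mem (inv_mem (hHsu (hP.le hp))) (hHsu hh)) hs
    show g' * h * g'⁻¹ ∈ cover ψ
    rw [show g' * h * g'⁻¹ = g' * p * g'⁻¹ * (g' * (p⁻¹ * h) * g'⁻¹) by group]
    exact mul_mem hpN hsN
  have hsl : ∀ (t : GL3) (y : GL3), y ∈ Cfsg.Geo.specialLinear (Fin 3) F →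
      t * y * t⁻¹ ∈ Cfsg.Geo.specialLinear (Fin 3) F := fun t y hy =>
    MonoidHom.mem_ker.2 (by rw [map_mul, map_mul, map_inv, MonoidHom.mem_ker.1 hy, mul_one, mul_inv_cancel])
  have hNsu : N ≤ SUg F := by
    intro y hy
    have h1 := cover_le ψ (show g' * y * g'⁻¹ ∈ cover ψ from hy)
    have h2' := mul_mem (mul_mem (inv_mem hg'U) h1.1) hg'U
    have h3 := hsl g'⁻¹ _ h1.2
    rw [inv_inv, show g'⁻¹ * (g' * y * g'⁻¹) * g' = y by group] at h3
    rw [show g'⁻¹ * (g' * y * g'⁻¹) * g' = y by group] at h2'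
    exact ⟨h2', h3⟩
  rcases hH.2 N hHN hNsu with hNe | hNe
  · -- an element of order five
    let w := U 0 * U 1 * U 2
    have hwN : g'⁻¹ * w * g' ∈ H := by
      rw [← hNe]
      show g' * (g'⁻¹ * w * g') * g'⁻¹ ∈ cover ψ
      rw [show g' * (g'⁻¹ * w * g') * g'⁻¹ = w by group]
      exact mul_mem (mul_mem (gen_mem ψ 0) (gen_mem ψ 1)) (gen_mem ψ 2)
    have hw5 : w ^ 5 = 1 := Units.ext (by
      rw [Units.val_pow_eq_pow_val, Units.val_one]
      show (tr ψ (X 0) * tr ψ (X 1) * tr ψ (X 2)) ^ 5 = 1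
      rw [← tr_mul, ← tr_mul]
      simp only [pow_succ, pow_zero, Matrix.one_mul, ← tr_mul]
      rw [← tr_one ψ, ← wF_five]
      rfl)
    let q : Bar H := ((⟨_, hwN⟩ : ↥H) : Bar H)
    have hq5 : q ^ 5 = 1 := by
      show ((⟨_, hwN⟩ : ↥H) : Bar H) ^ 5 = 1
      rw [← QuotientGroup.mk_pow, QuotientGroup.eq_one_iff, Subgroup.mem_subgroupOf]
      show (g'⁻¹ * w * g') ^ 5 ∈ _
      have : (g'⁻¹ * w * g') ^ 5 = g'⁻¹ * w ^ 5 * g' := by
        simp only [pow_succ, pow_zero, one_mul]; group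
      rw [this, hw5, mul_one, inv_mul_cancel]
      exact one_mem _
    haveI : Fintype (Bar H) := Fintype.ofFinite _
    have hq1 : q = 1 := by
      have hd : orderOf q ∣ Nat.gcd 5 168 :=
        Nat.dvd_gcd (orderOf_dvd_of_pow_eq_one hq5) (hcardH ▸ orderOf_dvd_natCard q)
      rw [show Nat.gcd 5 168 = 1 by norm_num, Nat.dvd_one, orderOf_eq_one_iff] at hd
      exact hd
    have hws : w ∈ Cfsg.Geo.scalars (Fin 3) F := by
      have h0 : g'⁻¹ * w * g' ∈ Cfsg.Geo.scalars (Fin 3) F := mk_eq_one.1 hq1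
      have := scalar_comm' h0 g'⁻¹
      have e1 : w = g' * (g'⁻¹ * w * g') * g'⁻¹ := by group
      rw [e1, mul_assoc, this, mul_inv_cancel_left]
      exact h0
    obtain ⟨k, hk⟩ := (Cfsg.Geo.mem_scalars_iff w).1 hws
    have hk' : tr ψ wF = (k : F) • 1 := by
      rw [← hk]; show tr ψ (X 0 * X 1 * X 2) = tr ψ (X 0) * tr ψ (X 1) * tr ψ (X 2)
      rw [tr_mul, tr_mul]
    have ent : ∀ i j, ψ (wF i j) = ((k : F) • (1 : Mat)) i j := fun i j => congrFun (congrFun hk' i) j
    rcases wF_not_scalar with h | h | h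
    · exact h (ψ.injective (by rw [ent, map_zero]; simp))
    · exact h (ψ.injective (by rw [ent, ent]; simp))
    · exact h (ψ.injective (by rw [ent, map_zero]; simp))
  · -- the shift moves the lines
    have hB' : trU ψ stdB stdB_det ∈ SUg F := trU_mem ψ _ _ stdB_unitary
    have hB1 : trU ψ stdB stdB_det ∈ Cfsg.GU 3 F 5 := hB'.1
    have hy : g'⁻¹ * trU ψ stdB stdB_det * g' ∈ N := by
      rw [hNe]
      have hm : g'⁻¹ * trU ψ stdB stdB_det * g' ∈ Cfsg.GU 3 F 5 := mul_mem (mul_mem (inv_mem hg'U) hB1) hg'U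
      refine ⟨hm, ?_⟩
      have := hsl g'⁻¹ _ hB'.2
      rwa [inv_inv] at this
    refine shift_not_mem ψ ?_
    have : g' * (g'⁻¹ * trU ψ stdB stdB_det * g') * g'⁻¹ ∈ cover ψ := hy
    rwa [show g' * (g'⁻¹ * trU ψ stdB stdB_det * g') * g'⁻¹ = trU ψ stdB stdB_det by group] at this

end Cfsg.Agent.PSLThree.Rep5
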